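import Mathlib.LinearAlgebra.Matrix.PosDef
import Mathlib.LinearAlgebra.Matrix.ToLinearEquiv
import Mathlib.Data.Nat.Choose.Vandermonde
import Mathlib.Algebra.Polynomial.FieldDivision
import Mathlib.Data.Nat.Dist
import Mathlib.Algebra.Order.Star.Real
import Mathlib.Tactic

/-! Toeplitz matrices of signed binomial coefficients. -/

namespace Groth.Agent.ToeplitzLib
open Finset

lemma sum_choose_shift (n d : ℕ) :
    ∑ t ∈ range (n + 1), n.choose (t + d) * n.choose t = (2 * n).choose (n + d) := by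
  rw [two_mul, Nat.add_choose_eq, Finset.Nat.sum_antidiagonal_eq_sum_range_succ_mk,
    show (n + d).succ = d + (n + 1) by omega]
  conv_rhs => rw [sum_range_add]
  rw [sum_eq_zero (s := range d) (fun a ha => ?_), zero_add]
  · refine sum_congr rfl fun t ht => ?_
    rw [mem_range] at ht
    rw [show n + d - (d + t) = n - t by omega, Nat.choose_symm (by omega), add_comm d t]
  · rw [mem_range] at ha
    simp [Nat.choose_eq_zero_of_lt (show n < n + d - a by omega)]

/-- the convolution matrix of `(1 - X) ^ n` -/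
def conv (n m : ℕ) : Matrix (Fin (m + n)) (Fin m) ℝ :=
  Matrix.of fun k j => if (j : ℕ) ≤ k then (-1 : ℝ) ^ ((k : ℕ) + j) * n.choose ((k : ℕ) - j) else 0

lemma conv_mul_le (n m : ℕ) (i j : Fin m) (hij : (i : ℕ) ≤ j) :
    ∑ k, conv n m k i * conv n m k j = (-1 : ℝ) ^ ((i : ℕ) + j) * (2 * n).choose (n + ((j : ℕ) - i)) := by
  have hj := j.2
  rw [← sum_choose_shift]
  push_cast
  rw [mul_sum]
  simp only [conv, Matrix.of_apply]
  rw [Fin.sum_univ_eq_sum_range (fun k => (if (i : ℕ) ≤ k then (-1 : ℝ) ^ (k + i) * n.choose (k - i) else 0) *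
    (if (j : ℕ) ≤ k then (-1 : ℝ) ^ (k + j) * n.choose (k - j) else 0)) (m + n)]
  rw [← sum_range_add_sum_Ico _ (show (j : ℕ) ≤ m + n by omega)]
  rw [sum_eq_zero (s := range j) (fun a ha => by rw [mem_range] at ha; simp [Nat.not_le.2 ha]), zero_add,
    sum_Ico_eq_sum_range]
  rw [← sum_subset (show range (n + 1) ⊆ range (m + n - j) from range_subset_range.2 (by omega))
    (fun t _ ht => by
      rw [mem_range, Nat.not_lt] at ht
      rw [if_pos (show (j : ℕ) ≤ j + t by omega), Nat.choose_eq_zero_of_lt (show n < (j : ℕ) + t - j by omega)]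
      simp)]
  refine sum_congr rfl fun t _ => ?_
  rw [if_pos (by omega), if_pos (by omega), show (j : ℕ) + t - j = t by omega,
    show (j : ℕ) + t - i = t + ((j : ℕ) - i) by omega]
  have h1 : (-1 : ℝ) ^ ((j : ℕ) + t + i) * (-1) ^ ((j : ℕ) + t + j) = (-1) ^ ((i : ℕ) + j) := by
    rw [← pow_add, show (j : ℕ) + t + i + (j + t + j) = 2 * (j + t) + (i + j) by ring, pow_add, pow_mul]
    simp
  linear_combination ((n.choose (t + ((j : ℕ) - i)) : ℝ) * n.choose t) * h1

theorem posDef_even (n m : ℕ) :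
    (Matrix.of fun i j : Fin m =>
        (-1 : ℝ) ^ ((i : ℕ) + (j : ℕ)) * (Nat.choose (2 * n) (n + Nat.dist i j) : ℝ)).PosDef := by
  have h : (Matrix.of fun i j : Fin m =>
        (-1 : ℝ) ^ ((i : ℕ) + (j : ℕ)) * (Nat.choose (2 * n) (n + Nat.dist i j) : ℝ)) =
      (conv n m).conjTranspose * conv n m := by
    ext i j
    simp only [Matrix.mul_apply, Matrix.conjTranspose_apply, star_trivial, Matrix.of_apply]
    rcases le_total (i : ℕ) j with h | h
    · rw [conv_mul_le n m i j h, Nat.dist_eq_sub_of_le h]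
    · simp_rw [mul_comm (conv n m _ i)]
      rw [conv_mul_le n m j i h, Nat.dist_eq_sub_of_le_right h, add_comm (i : ℕ)]
  rw [h]
  apply Matrix.PosDef.conjTranspose_mul_self
  show Function.Injective (conv n m).mulVecLin
  rw [← LinearMap.ker_eq_bot, LinearMap.ker_eq_bot']
  intro x hx
  funext i
  induction' hi : (i : ℕ) using Nat.strong_induction_on with a ih generalizing i
  have := congrFun hx ⟨i, by omega⟩
  simp only [Matrix.mulVecLin_apply, Matrix.mulVec, dotProduct, conv, Matrix.of_apply, Pi.zero_apply] at this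
  rw [sum_eq_single i] at this
  · simpa [← two_mul, pow_mul] using this
  · intro j _ hj
    by_cases hji : (j : ℕ) ≤ i
    · rw [if_pos hji]
      have : (j : ℕ) < i := lt_of_le_of_ne hji (fun h => hj (Fin.ext h))
      have h0 := ih j (by omega) j rfl
      simp only [Pi.zero_apply] at h0
      simp [h0]
    · simp [hji]
  · simp

open Polynomial in
lemma eq_zero_of_sparse : ∀ (N : ℕ) (p : ℤ[X]), (X - 1) ^ N ∣ p → p.support.card ≤ N → p = 0 := by
  intro N
  induction N with
  | zero => intro p _ h; simpa using h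
  | succ N ih =>
    intro p hd hc
    by_contra hp
    obtain ⟨r, hr, hr0⟩ := p.exists_eq_pow_rootMultiplicity_mul_and_not_dvd hp 0
    simp only [map_zero, sub_zero] at hr hr0
    set t := p.rootMultiplicity 0
    have hd' : (X - 1 : ℤ[X]) ^ (N + 1) ∣ r := by
      have hcop : IsCoprime ((X - 1 : ℤ[X]) ^ (N + 1)) (X ^ t) :=
        (show IsCoprime (X - 1 : ℤ[X]) X from ⟨-1, 1, by ring⟩).pow
      exact hcop.dvd_of_dvd_mul_left (hr ▸ hd)
    have hsupp : r.support.map (addRightEmbedding t) ⊆ p.support := by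
      intro a ha
      simp only [mem_map, addRightEmbedding_apply] at ha
      obtain ⟨b, hb, rfl⟩ := ha
      rw [mem_support_iff, hr, coeff_X_pow_mul]
      simpa using hb
    have hcr : r.support.card ≤ N + 1 := by
      have := (card_le_card hsupp).trans hc
      rwa [card_map] at this
    have h0 : 0 ∈ r.support := by
      rw [mem_support_iff]; exact fun h => hr0 (X_dvd_iff.2 h)
    have hder : derivative r = 0 := by
      apply ih
      · simpa using pow_sub_one_dvd_derivative_of_pow_dvd hd'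
      · have hsub : (derivative r).support.map (addRightEmbedding 1) ⊆ r.support.erase 0 := by
          intro a ha
          simp only [mem_map, addRightEmbedding_apply] at ha
          obtain ⟨b, hb, rfl⟩ := ha
          exact mem_erase.2 ⟨by omega, of_mem_support_derivative hb⟩
        have := card_le_card hsub
        rw [card_map, card_erase_of_mem h0] at this
        omega
    have hrC := eq_C_of_derivative_eq_zero hder
    obtain ⟨w, hw⟩ := dvd_trans (dvd_pow_self (X - 1 : ℤ[X]) N.succ_ne_zero) hd'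
    have hev := congrArg (eval 1) hw
    rw [hrC] at hev
    simp at hev
    exact (mem_support_iff.1 h0) hev

open Polynomial in
theorem det_odd_ne_zero (n m : ℕ) :
    (Matrix.of fun i j : Fin m =>
        (-1 : ℤ) ^ ((i : ℕ) + (j : ℕ)) *
          (if (j : ℕ) ≤ (i : ℕ) then (Nat.choose (2 * n + 1) (n + 1 + ((i : ℕ) - (j : ℕ))) : ℤ)
            else (Nat.choose (2 * n + 1) (n + ((j : ℕ) - (i : ℕ))) : ℤ))).det ≠ 0 := by
  set E := Matrix.of fun i j : Fin m =>
        (-1 : ℤ) ^ ((i : ℕ) + (j : ℕ)) *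
          (if (j : ℕ) ≤ (i : ℕ) then (Nat.choose (2 * n + 1) (n + 1 + ((i : ℕ) - (j : ℕ))) : ℤ)
            else (Nat.choose (2 * n + 1) (n + ((j : ℕ) - (i : ℕ))) : ℤ)) with hE
  intro hdet
  obtain ⟨x, hx0, hx⟩ := Matrix.exists_mulVec_eq_zero_iff.2 hdet
  set P : ℤ[X] := ∑ j : Fin m, Polynomial.C (x j) * X ^ (j : ℕ) with hP
  set q := (X - 1 : ℤ[X]) ^ (2 * n + 1) * P with hq
  have hcoef : ∀ t : ℕ, q.coeff t = ∑ j : Fin m, if (j : ℕ) ≤ t then
      x j * ((-1 : ℤ) ^ (2 * n + 1 - (t - j)) * ((2 * n + 1).choose (t - j))) else 0 := by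
    intro t
    rw [hq, hP, mul_sum, finsetSum_coeff]
    refine sum_congr rfl fun j _ => ?_
    rw [mul_comm (Polynomial.C (x j)), ← mul_assoc, coeff_mul_C, coeff_mul_X_pow']
    split
    · rw [show (X - 1 : ℤ[X]) = X + Polynomial.C (-1) by simp [sub_eq_add_neg], coeff_X_add_C_pow]; ring
    · simp
  have hmid : ∀ i : Fin m, q.coeff (n + 1 + i) = (-1) ^ n * (E.mulVec x) i := by
    intro i
    rw [hcoef]
    simp only [Matrix.mulVec, dotProduct, mul_sum]
    refine sum_congr rfl fun j _ => ?_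
    simp only [hE, Matrix.of_apply]
    by_cases hji : (j : ℕ) ≤ i
    · rw [if_pos (by omega), if_pos hji, show n + 1 + (i : ℕ) - j = n + 1 + ((i : ℕ) - j) by omega]
      by_cases hb : n + 1 + ((i : ℕ) - j) ≤ 2 * n + 1
      · have : (-1 : ℤ) ^ (2 * n + 1 - (n + 1 + ((i : ℕ) - j))) = (-1) ^ n * (-1) ^ ((i : ℕ) + j) := by
          rw [← pow_add, neg_one_pow_eq_pow_mod_two, neg_one_pow_eq_pow_mod_two (R := ℤ) (n := n + _)]
          congr 1; omega
        rw [this]; ring
      · simp [Nat.choose_eq_zero_of_lt (not_le.1 hb)]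
    · rw [if_neg hji]
      by_cases hb : (j : ℕ) ≤ n + 1 + i
      · rw [if_pos hb, show (2 * n + 1).choose (n + 1 + (i : ℕ) - j) = (2 * n + 1).choose (n + ((j : ℕ) - i)) from
          Nat.choose_symm_of_eq_add (by omega)]
        have : (-1 : ℤ) ^ (2 * n + 1 - (n + 1 + (i : ℕ) - j)) = (-1) ^ n * (-1) ^ ((i : ℕ) + j) := by
          rw [← pow_add, neg_one_pow_eq_pow_mod_two, neg_one_pow_eq_pow_mod_two (R := ℤ) (n := n + _)]
          congr 1; omega
        rw [this]; ring
      · rw [if_neg hb]; simp [Nat.choose_eq_zero_of_lt (show 2 * n + 1 < n + ((j : ℕ) - i) by omega)]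
  have hsup : q.support ⊆ range (n + 1) ∪ Ico (n + 1 + m) (2 * n + 1 + m) := by
    intro t ht
    rw [mem_support_iff] at ht
    simp only [mem_union, mem_range, mem_Ico]
    by_contra hc
    rcases lt_or_ge t (n + 1 + m) with h | h
    · apply ht
      obtain ⟨i, rfl⟩ : ∃ i, t = n + 1 + i := ⟨t - (n + 1), by omega⟩
      rw [hmid ⟨i, by omega⟩, hx]; simp
    · apply ht
      rw [hcoef]
      refine sum_eq_zero fun j _ => ?_
      rw [if_pos (by omega), Nat.choose_eq_zero_of_lt (show 2 * n + 1 < t - j by omega)]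
      simp
  have hq0 : q = 0 := by
    refine eq_zero_of_sparse (2 * n + 1) q (dvd_mul_right _ _) ((card_le_card hsup).trans ((card_union_le _ _).trans ?_))
    rw [card_range, Nat.card_Ico]; omega
  have hP0 : P = 0 := by
    rcases mul_eq_zero.1 hq0 with h | h
    · exact absurd h (pow_ne_zero _ (X_sub_C_ne_zero 1))
    · exact h
  apply hx0
  funext j
  have := congrArg (fun p => Polynomial.coeff p (j : ℕ)) hP0
  simpa [hP, finsetSum_coeff, Polynomial.coeff_X_pow, Fin.val_inj] using this

end Groth.Agent.ToeplitzLib
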